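import Groth.Agent.Lib.ModLimH13.Sections
import Groth.Agent.Lib.HomShH7.LocFree
import Groth.Agent.Lib.TensorMod.Invertible

/-!
# Bases of sections of modules on schemes
-/

set_option autoImplicit false
set_option linter.style.haveILetI false
set_option backward.isDefEq.respectTransparency false

universe u

open CategoryTheory CategoryTheory.Limits AlgebraicGeometry TopologicalSpace Opposite TensorProduct

noncomputable section

namespace Groth.Agent.PinchModH7

open Groth.Agent

variable {X : Scheme.{u}} {N : X.Modules} {V : X.Opens} {n : ℕ}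

/-- A combination of restricted sections. -/
def comb (e : Fin n → Γ(N, V)) {W : X.Opens} (h : W ≤ V) (c : Fin n → Γ(X, W)) : Γ(N, W) :=
  ∑ i, c i • M1.mres N h (e i)

/-- A combination of germs. -/
def gcomb (e : Fin n → Γ(N, V)) {p : X} (hp : p ∈ V) (c : Fin n → X.presheaf.stalk p) :
    (N.presheaf.stalk p : Type u) :=
  ∑ i, c i • N.presheaf.germ V p hp (e i)

/-- A basis of sections on an open. -/
def IsBasisSec (e : Fin n → Γ(N, V)) : Prop :=
  ∀ (p : X) (hp : p ∈ V), Function.Bijective (gcomb e hp)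

variable {e : Fin n → Γ(N, V)}

theorem germ_comb {W : X.Opens} (h : W ≤ V) (c : Fin n → Γ(X, W)) {p : X} (hp : p ∈ W) :
    N.presheaf.germ W p hp (comb e h c) = gcomb e (h hp) (fun i => X.presheaf.germ W p hp (c i)) := by
  rw [comb, map_sum, gcomb]
  exact Finset.sum_congr rfl fun i _ => by rw [M1.germ_smul, M1.germ_mres]

theorem mres_comb {W W' : X.Opens} (h : W ≤ V) (h' : W' ≤ W) (c : Fin n → Γ(X, W)) :
    M1.mres N h' (comb e h c) = comb e (h'.trans h) (fun i => M1.ores h' (c i)) := by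
  rw [comb, map_sum]
  exact Finset.sum_congr rfl fun i _ => by rw [M1.mres_smul, M1.mres_mres]

theorem IsBasisSec.comb_injective (he : IsBasisSec e) {W : X.Opens} (h : W ≤ V) :
    Function.Injective (comb e h) := fun c d hcd => funext fun i =>
  TopCat.Presheaf.section_ext X.sheaf W _ _ fun p hp => by
    have h1 := congrArg (N.presheaf.germ W p hp) hcd
    rw [germ_comb, germ_comb] at h1
    exact congrFun ((he p (h hp)).1 h1) i

theorem IsBasisSec.exists_comb (he : IsBasisSec e) {W : X.Opens} (h : W ≤ V) (s : Γ(N, W)) :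
    ∃ c, comb e h c = s := by
  have hloc : ∀ p : W, ∃ (W' : X.Opens) (_ : p.1 ∈ W') (h' : W' ≤ W) (c : Fin n → Γ(X, W')),
      comb e (h'.trans h) c = M1.mres N h' s := by
    intro ⟨p, hp⟩
    obtain ⟨c, hc⟩ := (he p (h hp)).2 (N.presheaf.germ W p hp s)
    choose U hU t ht using fun i => X.presheaf.exists_germ_eq (c i)
    let W₁ : X.Opens := W ⊓ (Finset.univ : Finset (Fin n)).inf U
    have hp₁ : p ∈ W₁ := ⟨hp, by
      have : ∀ (S : Finset (Fin n)), p ∈ S.inf U := fun S => by
        induction S using Finset.induction_on with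
        | empty => rw [Finset.inf_empty]; trivial
        | insert a S ha ih => rw [Finset.inf_insert]; exact ⟨hU a, ih⟩
      exact this _⟩
    have hWU : ∀ i, W₁ ≤ U i := fun i => inf_le_right.trans (Finset.inf_le (Finset.mem_univ i))
    have hg : N.presheaf.germ W₁ p hp₁ (comb e ((inf_le_left : W₁ ≤ W).trans h) fun i => M1.ores (hWU i) (t i)) =
        N.presheaf.germ W₁ p hp₁ (M1.mres N (inf_le_left : W₁ ≤ W) s) := by
      rw [germ_comb, M1.germ_mres, ← hc]
      refine congrArg _ (funext fun i => ?_)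
      rw [← ht i]
      exact TopCat.Presheaf.germ_res_apply X.presheaf _ _ _ _
    obtain ⟨W₂, hp₂, i₁, i₂, hW₂⟩ := N.presheaf.germ_eq p hp₁ hp₁ _ _ hg
    have hle : W₂ ≤ W₁ := i₁.le
    refine ⟨W₂, hp₂, hle.trans inf_le_left, fun i => M1.ores hle (M1.ores (hWU i) (t i)), ?_⟩
    rw [← mres_comb ((inf_le_left : W₁ ≤ W).trans h) hle, ← M1.mres_mres N (inf_le_left : W₁ ≤ W) hle]
    exact hW₂
  choose W' hpW hW' c hc using hloc
  have hsup : W ≤ ⨆ p : W, W' p := fun p hp => Opens.mem_iSup.2 ⟨⟨p, hp⟩, hpW ⟨p, hp⟩⟩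
  have hcomp : ∀ i, TopCat.Presheaf.IsCompatible X.presheaf W' fun p => c p i := fun i p q => by
    refine congrFun (he.comb_injective ((inf_le_left : W' p ⊓ W' q ≤ W' p).trans ((hW' p).trans h))
      (a₁ := fun j => M1.ores (inf_le_left : W' p ⊓ W' q ≤ W' p) (c p j))
      (a₂ := fun j => M1.ores (inf_le_right : W' p ⊓ W' q ≤ W' q) (c q j)) ?_) i
    rw [← mres_comb ((hW' p).trans h), hc p, M1.mres_mres]
    exact ((mres_comb ((hW' q).trans h) (inf_le_right : W' p ⊓ W' q ≤ W' q) (c q)).symm.trans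
      ((congrArg _ (hc q)).trans (M1.mres_mres _ _ _ _))).symm
  choose d hd _ using fun i => TopCat.Sheaf.existsUnique_gluing' X.sheaf W' W
    (fun p => homOfLE (hW' p)) hsup (fun p => c p i) (hcomp i)
  refine ⟨d, TopCat.Sheaf.eq_of_locally_eq' (F := ⟨N.presheaf, N.isSheaf⟩) W' W (fun p => homOfLE (hW' p)) hsup _ _
    fun p => ?_⟩
  show M1.mres N (hW' p) (comb e h d) = M1.mres N (hW' p) s
  rw [mres_comb, ← hc p]
  exact congrArg _ (funext fun i => hd i p)

theorem IsBasisSec.pull {Y : Scheme.{u}} (g : Y ⟶ X) (he : IsBasisSec e) {W : Y.Opens} (h : W ≤ g ⁻¹ᵁ V) :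
    IsBasisSec (fun i => ModLimH13.res' g N h (e i)) := by
  intro y hy
  let L : (Fin n → X.presheaf.stalk (g y)) →ₗ[X.presheaf.stalk (g y)] (N.presheaf.stalk (g y) : Type u) :=
    (Pi.basisFun (X.presheaf.stalk (g y)) (Fin n)).constr ℕ fun i => N.presheaf.germ V (g y) (h hy) (e i)
  have hL : ∀ c, L c = gcomb e (h hy) c := fun c => by
    simp only [L, Module.Basis.constr_apply_fintype, Pi.basisFun_equivFun, LinearEquiv.refl_apply]
    rfl
  have hLb : Function.Bijective L := by
    have := he (g y) (h hy)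
    rwa [show (L : _ → _) = gcomb e (h hy) from funext hL]
  let b : Module.Basis (Fin n) (X.presheaf.stalk (g y)) (N.presheaf.stalk (g y) : Type u) :=
    Module.Basis.ofEquivFun (LinearEquiv.ofBijective L hLb).symm
  have hb : ∀ i, b i = N.presheaf.germ V (g y) (h hy) (e i) := fun i => by
    simp [b, L, Module.Basis.coe_ofEquivFun]
  have hbc := M2.isBaseChange_stalkUnit g y N
  let b' := (b.baseChange (Y.presheaf.stalk y)).map hbc.equiv
  have hb' : ∀ i, b' i = ((Scheme.Modules.pullback g).obj N).presheaf.germ W y hy (ModLimH13.res' g N h (e i)) :=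
    fun i => by
      simp only [b', Module.Basis.map_apply, Module.Basis.baseChange_apply, IsBaseChange.equiv_tmul, one_smul, hb]
      refine (M2.stalkUnitHom_germ g y N (h hy) (e i)).trans ?_
      exact (M1.germ_mres _ h hy _).symm
  have hfun : (gcomb (fun i => ModLimH13.res' g N h (e i)) hy) = b'.equivFun.symm := funext fun c => by
    rw [Module.Basis.equivFun_symm_apply, gcomb]
    simp only [hb']
  rw [hfun]
  exact b'.equivFun.symm.bijective

theorem exists_basisSec (hN : FlatMod.IsFinLocFree N) (p : X) :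
    ∃ (V : X.Opens) (n : ℕ) (e : Fin n → Γ(N, V)), p ∈ V ∧ IsBasisSec e := by
  obtain ⟨U, r, hpU, ⟨f⟩⟩ := hN p
  obtain ⟨V, hV, hpV, hVU⟩ := exists_isAffineOpen_mem_and_subset (x := p) (U := U) hpU
  haveI hq : Coh.IsQCoh N := M2.isQCoh_of_isFinLocFree hN
  obtain ⟨hf, hfin⟩ := HomShH7.free_sections hq f hV hVU
  refine ⟨V, _, fun i => (Module.Free.chooseBasis Γ(X, V) Γ(N, V)).reindex (Fintype.equivFin _) i, hpV, fun q hq' => ?_⟩
  let b := (Module.Free.chooseBasis Γ(X, V) Γ(N, V)).reindex (Fintype.equivFin _)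
  letI := M1.stalkModule N hq'
  haveI := M1.isLocalizedModule_germ N hV hq'
  let := TopCat.Presheaf.algebra_section_stalk X.presheaf (⟨q, hq'⟩ : V)
  haveI := hV.isLocalization_stalk ⟨q, hq'⟩
  haveI : IsScalarTower Γ(X, V) (X.presheaf.stalk q) (N.presheaf.stalk q) :=
    IsScalarTower.of_algebraMap_smul fun _ _ => rfl
  let b' := b.ofIsLocalizedModule (X.presheaf.stalk q) (hV.primeIdealOf ⟨q, hq'⟩).asIdeal.primeCompl (M1.germₗ N hq')
  have hb' : ∀ i, b' i = N.presheaf.germ V q hq' (b i) := fun i =>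
    b.ofIsLocalizedModule_apply (X.presheaf.stalk q) _ (M1.germₗ N hq') i
  have hfun : gcomb (fun i => b i) hq' = b'.equivFun.symm := funext fun c => by
    rw [Module.Basis.equivFun_symm_apply, gcomb]
    simp only [hb']
  show Function.Bijective (gcomb (fun i => b i) hq')
  rw [hfun]
  exact b'.equivFun.symm.bijective

end Groth.Agent.PinchModH7
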