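import Groth.Agent.Lib.PinchModH7.Basis
import Groth.Agent.Lib.PinchH7.Sections
import Groth.Agent.Lib.StQC14.SchMod

/-!
# Homomorphisms into finite locally free modules on a pinched scheme
-/

set_option autoImplicit false
set_option linter.style.haveILetI false
set_option backward.isDefEq.respectTransparency false

universe u

open CategoryTheory CategoryTheory.Limits AlgebraicGeometry TopologicalSpace Opposite

noncomputable section

namespace Groth.Agent.PinchModH7

open Groth.Agent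

variable {X Y Z T : Scheme.{u}} (fX : Z ⟶ X) (fY : Z ⟶ Y) (gX : X ⟶ T) (gY : Y ⟶ T) (hw : fX ≫ gX = fY ≫ gY)

include hw in
/-- The preimages in `Z` agree. -/
theorem zle (W : T.Opens) : fY ⁻¹ᵁ gY ⁻¹ᵁ W ≤ fX ⁻¹ᵁ gX ⁻¹ᵁ W :=
  le_of_eq (by rw [← Scheme.Hom.comp_preimage, ← Scheme.Hom.comp_preimage, hw])

/-- Compatibility of sections on the two pieces. -/
def Compat (N : T.Modules) (W : T.Opens) (x : Γ((Scheme.Modules.pullback gX).obj N, gX ⁻¹ᵁ W))
    (y : Γ((Scheme.Modules.pullback gY).obj N, gY ⁻¹ᵁ W)) : Prop :=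
  ModLimH13.trans fX gX N hw (zle fX fY gX gY hw W) x =
    ModLimH13.trans fY gY N (W'' := fY ⁻¹ᵁ gY ⁻¹ᵁ W) rfl le_rfl y

theorem compat_res' (N : T.Modules) (W : T.Opens) (s : Γ(N, W)) :
    Compat fX fY gX gY hw N W (ModLimH13.res' gX N le_rfl s) (ModLimH13.res' gY N le_rfl s) := by
  rw [Compat, ModLimH13.trans_res', ModLimH13.trans_res']

variable (hpo : IsPushout ((Scheme.forgetToLocallyRingedSpace ⋙ LocallyRingedSpace.forgetToSheafedSpace).map fX)
  ((Scheme.forgetToLocallyRingedSpace ⋙ LocallyRingedSpace.forgetToSheafedSpace).map fY)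
  ((Scheme.forgetToLocallyRingedSpace ⋙ LocallyRingedSpace.forgetToSheafedSpace).map gX)
  ((Scheme.forgetToLocallyRingedSpace ⋙ LocallyRingedSpace.forgetToSheafedSpace).map gY))

variable {N : T.Modules}

theorem res'_comb {S : Scheme.{u}} (g : S ⟶ T) {V W : T.Opens} {n : ℕ} (e : Fin n → Γ(N, V)) (h : W ≤ V)
    (c : Fin n → Γ(T, W)) :
    ModLimH13.res' g N (le_rfl : g ⁻¹ᵁ W ≤ g ⁻¹ᵁ W) (comb e h c) =
      comb (fun i => ModLimH13.res' g N (le_rfl : g ⁻¹ᵁ V ≤ g ⁻¹ᵁ V) (e i)) (g.preimage_mono h)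
        (fun i => g.app W (c i)) := by
  let φ : Γ(N, W) →+ Γ((Scheme.Modules.pullback g).obj N, g ⁻¹ᵁ W) :=
    AddMonoidHom.mk' (ModLimH13.res' g N le_rfl) (ModLimH13.res'_add g N le_rfl)
  show φ (comb e h c) = _
  rw [comb, map_sum, comb]
  refine Finset.sum_congr rfl fun i _ => ?_
  show ModLimH13.res' g N le_rfl (c i • M1.mres N h (e i)) = _
  rw [ModLimH13.res'_smul, ModLimH13.res'_mres, ModLimH13.mres_res', Scheme.Hom.appLE_eq_app]

theorem trans_comb {S : Scheme.{u}} (p : Z ⟶ S) (g : S ⟶ T) {k : Z ⟶ T} (w : p ≫ g = k) {V W : T.Opens} {n : ℕ}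
    (e : Fin n → Γ(N, V)) (h : W ≤ V) {W'' : Z.Opens} (d : W'' ≤ p ⁻¹ᵁ g ⁻¹ᵁ W) (hk : W'' ≤ k ⁻¹ᵁ V)
    (a : Fin n → Γ(S, g ⁻¹ᵁ W)) :
    ModLimH13.trans p g N w d
        (comb (fun i => ModLimH13.res' g N (le_rfl : g ⁻¹ᵁ V ≤ g ⁻¹ᵁ V) (e i)) (g.preimage_mono h) a) =
      comb (fun i => ModLimH13.res' k N (le_rfl : k ⁻¹ᵁ V ≤ k ⁻¹ᵁ V) (e i)) hk
        (fun i => p.appLE (g ⁻¹ᵁ W) W'' d (a i)) := by
  rw [comb, ModLimH13.trans_sum, comb]
  refine Finset.sum_congr rfl fun i _ => ?_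
  rw [ModLimH13.trans_smul, ModLimH13.mres_res', ModLimH13.trans_res', ModLimH13.mres_res']

include hpo in
theorem existsUnique_of_basis {V : T.Opens} {n : ℕ} {e : Fin n → Γ(N, V)} (he : IsBasisSec e) {W : T.Opens}
    (h : W ≤ V) {x : Γ((Scheme.Modules.pullback gX).obj N, gX ⁻¹ᵁ W)}
    {y : Γ((Scheme.Modules.pullback gY).obj N, gY ⁻¹ᵁ W)} (hxy : Compat fX fY gX gY hw N W x y) :
    ∃! t : Γ(N, W), ModLimH13.res' gX N le_rfl t = x ∧ ModLimH13.res' gY N le_rfl t = y := by
  have heX := he.pull gX (le_rfl : gX ⁻¹ᵁ V ≤ gX ⁻¹ᵁ V)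
  have heY := he.pull gY (le_rfl : gY ⁻¹ᵁ V ≤ gY ⁻¹ᵁ V)
  obtain ⟨a, rfl⟩ := heX.exists_comb (gX.preimage_mono h) x
  obtain ⟨b, rfl⟩ := heY.exists_comb (gY.preimage_mono h) y
  have hk : fY ⁻¹ᵁ gY ⁻¹ᵁ W ≤ (fY ≫ gY) ⁻¹ᵁ V := by
    rw [Scheme.Hom.comp_preimage]; exact fY.preimage_mono (gY.preimage_mono h)
  rw [Compat, trans_comb fX gX hw e h _ hk, trans_comb fY gY rfl e h _ hk] at hxy
  have hab := (he.pull (fY ≫ gY) (le_rfl : (fY ≫ gY) ⁻¹ᵁ V ≤ (fY ≫ gY) ⁻¹ᵁ V)).comb_injective hk hxy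
  have hc : ∀ i, ∃! c : Γ(T, W), gX.app W c = a i ∧ gY.app W c = b i := fun i => by
    refine PinchH7.existsUnique_section_scheme hpo hw W (a i) (b i) ?_
    have h1 := congrFun hab i
    rw [Scheme.Hom.appLE_eq_app] at h1
    rw [← h1, Scheme.Hom.appLE, CommRingCat.comp_apply]
    exact (PinchH7.map_loop_eq_self Z.presheaf _ _ _).symm
  choose c hc hcu using hc
  refine ⟨comb e h c, ⟨?_, ?_⟩, fun t ⟨htX, htY⟩ => ?_⟩
  · rw [res'_comb]; exact congrArg _ (funext fun i => (hc i).1)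
  · rw [res'_comb]; exact congrArg _ (funext fun i => (hc i).2)
  · obtain ⟨d, rfl⟩ := he.exists_comb h t
    rw [res'_comb] at htX htY
    exact congrArg _ (funext fun i => hcu i _ ⟨congrFun (heX.comb_injective _ htX) i,
      congrFun (heY.comb_injective _ htY) i⟩)

theorem mres_res'_eq {S : Scheme.{u}} (g : S ⟶ T) {W W' : T.Opens} (h : W' ≤ W) (s : Γ(N, W)) :
    ModLimH13.res' g N (le_rfl : g ⁻¹ᵁ W' ≤ g ⁻¹ᵁ W') (M1.mres N h s) =
      M1.mres _ (g.preimage_mono h) (ModLimH13.res' g N le_rfl s) := by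
  rw [ModLimH13.res'_mres, ModLimH13.mres_res']

theorem Compat.mres {W W' : T.Opens} (h : W' ≤ W) {x : Γ((Scheme.Modules.pullback gX).obj N, gX ⁻¹ᵁ W)}
    {y : Γ((Scheme.Modules.pullback gY).obj N, gY ⁻¹ᵁ W)} (hxy : Compat fX fY gX gY hw N W x y) :
    Compat fX fY gX gY hw N W' (M1.mres _ (gX.preimage_mono h) x) (M1.mres _ (gY.preimage_mono h) y) := by
  have h1 := congrArg (M1.mres _ (fY.preimage_mono (gY.preimage_mono h))) hxy
  rw [ModLimH13.mres_trans, ModLimH13.mres_trans] at h1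
  rw [Compat, ModLimH13.trans_mres, ModLimH13.trans_mres]
  exact h1

include hpo in
/-- Compatible pairs of sections come from unique sections. -/
theorem existsUnique_lift (hN : FlatMod.IsFinLocFree N) (W : T.Opens)
    {x : Γ((Scheme.Modules.pullback gX).obj N, gX ⁻¹ᵁ W)} {y : Γ((Scheme.Modules.pullback gY).obj N, gY ⁻¹ᵁ W)}
    (hxy : Compat fX fY gX gY hw N W x y) :
    ∃! t : Γ(N, W), ModLimH13.res' gX N le_rfl t = x ∧ ModLimH13.res' gY N le_rfl t = y := by
  choose V n e hpV he using fun p : W => exists_basisSec hN p.1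
  let U : W → T.Opens := fun p => W ⊓ V p
  have hsup : W ≤ ⨆ p, U p := fun p hp => Opens.mem_iSup.2 ⟨⟨p, hp⟩, hp, hpV ⟨p, hp⟩⟩
  have hex := fun p => existsUnique_of_basis fX fY gX gY hw hpo (he p) (inf_le_right : U p ≤ V p)
    (hxy.mres fX fY gX gY hw (inf_le_left : U p ≤ W))
  choose t ht htu using hex
  have hcomp : TopCat.Presheaf.IsCompatible N.presheaf U t := fun p q => by
    obtain ⟨s, -, hs⟩ := existsUnique_of_basis fX fY gX gY hw hpo (he p)
      ((inf_le_left : U p ⊓ U q ≤ U p).trans inf_le_right)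
      (hxy.mres fX fY gX gY hw ((inf_le_left : U p ⊓ U q ≤ U p).trans inf_le_left))
    refine (hs _ ⟨?_, ?_⟩).trans (hs _ ⟨?_, ?_⟩).symm <;>
      refine (mres_res'_eq _ _ _).trans ?_ <;>
      first
      | rw [(ht p).1, M1.mres_mres] | rw [(ht p).2, M1.mres_mres] | rw [(ht q).1, M1.mres_mres]
      | rw [(ht q).2, M1.mres_mres]
  obtain ⟨s, hs, -⟩ := TopCat.Sheaf.existsUnique_gluing' (F := (⟨N.presheaf, N.isSheaf⟩ : TopCat.Sheaf _ _)) U W
    (fun p => homOfLE inf_le_left) hsup t hcomp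
  have hglue : ∀ {S : Scheme.{u}} (g : S ⟶ T) (z : Γ((Scheme.Modules.pullback g).obj N, g ⁻¹ᵁ W)),
      (∀ p, ModLimH13.res' g N le_rfl (t p) = M1.mres _ (g.preimage_mono (inf_le_left : U p ≤ W)) z) →
      ModLimH13.res' g N le_rfl s = z := fun {S} g z hz => by
    refine TopCat.Sheaf.eq_of_locally_eq'
      (F := (⟨((Scheme.Modules.pullback g).obj N).presheaf, ((Scheme.Modules.pullback g).obj N).isSheaf⟩ : TopCat.Sheaf _ _))
      (fun p => g ⁻¹ᵁ U p) (g ⁻¹ᵁ W) (fun p => homOfLE (g.preimage_mono inf_le_left))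
      (fun q hq => by
        obtain ⟨p, hp⟩ := Opens.mem_iSup.1 (hsup hq)
        exact Opens.mem_iSup.2 ⟨p, hp⟩) _ _ fun p => ?_
    show M1.mres _ (g.preimage_mono (inf_le_left : U p ≤ W)) (ModLimH13.res' g N le_rfl s) = M1.mres _ _ z
    rw [← mres_res'_eq g (inf_le_left : U p ≤ W), ← hz p]
    exact congrArg _ (hs p)
  refine ⟨s, ⟨hglue gX x fun p => (ht p).1, hglue gY y fun p => (ht p).2⟩, fun s' ⟨hX, hY⟩ => ?_⟩
  refine TopCat.Sheaf.eq_of_locally_eq' (F := (⟨N.presheaf, N.isSheaf⟩ : TopCat.Sheaf _ _)) U W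
    (fun p => homOfLE inf_le_left) hsup _ _ fun p => ?_
  refine (htu p _ ⟨?_, ?_⟩).trans (hs p).symm
  · exact (mres_res'_eq gX _ _).trans (congrArg _ hX)
  · exact (mres_res'_eq gY _ _).trans (congrArg _ hY)

include hpo in
/-- Pullback to the pair is fully faithful into finite locally free modules. -/
theorem faithful_full (M : T.Modules) (hN : FlatMod.IsFinLocFree N) :
    (∀ φ ψ : M ⟶ N, (Scheme.Modules.pullback gX).map φ = (Scheme.Modules.pullback gX).map ψ →
        (Scheme.Modules.pullback gY).map φ = (Scheme.Modules.pullback gY).map ψ → φ = ψ) ∧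
      (∀ (a : (Scheme.Modules.pullback gX).obj M ⟶ (Scheme.Modules.pullback gX).obj N)
        (b : (Scheme.Modules.pullback gY).obj M ⟶ (Scheme.Modules.pullback gY).obj N),
        (Scheme.Modules.pullback fX).map a ≫
            ((Scheme.Modules.pullbackComp fX gX).app N ≪≫ (Scheme.Modules.pullbackCongr hw).app N ≪≫
              ((Scheme.Modules.pullbackComp fY gY).app N).symm).hom =
          ((Scheme.Modules.pullbackComp fX gX).app M ≪≫ (Scheme.Modules.pullbackCongr hw).app M ≪≫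
              ((Scheme.Modules.pullbackComp fY gY).app M).symm).hom ≫
            (Scheme.Modules.pullback fY).map b →
        ∃ φ : M ⟶ N, (Scheme.Modules.pullback gX).map φ = a ∧ (Scheme.Modules.pullback gY).map φ = b) := by
  refine ⟨fun φ ψ hX hY => Scheme.Modules.hom_ext _ _ fun W => ConcreteCategory.hom_ext _ _ fun s => ?_,
    fun a b hab => ?_⟩
  · obtain ⟨t, -, ht⟩ := existsUnique_lift fX fY gX gY hw hpo hN W (compat_res' fX fY gX gY hw N W (φ.app W s))
    refine (ht _ ⟨rfl, rfl⟩).trans (ht _ ⟨?_, ?_⟩).symm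
    · rw [← ModLimH13.map_res' gX M le_rfl ψ s, ← hX, ModLimH13.map_res']
    · rw [← ModLimH13.map_res' gY M le_rfl ψ s, ← hY, ModLimH13.map_res']
  · have hc : ∀ (W : T.Opens) (s : Γ(M, W)), Compat fX fY gX gY hw N W
        (a.app _ (ModLimH13.res' gX M le_rfl s)) (b.app _ (ModLimH13.res' gY M le_rfl s)) := by
      intro W s
      have e := zle fX fY gX gY hw W
      let U := fY ⁻¹ᵁ gY ⁻¹ᵁ W
      let r := ModLimH13.res' fX ((Scheme.Modules.pullback gX).obj M) e (ModLimH13.res' gX M le_rfl s)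
      let r' := ModLimH13.res' fY ((Scheme.Modules.pullback gY).obj M) (le_rfl : U ≤ U) (ModLimH13.res' gY M le_rfl s)
      have hY : ∀ (P : T.Modules) (z : Γ((Scheme.Modules.pullback fY).obj ((Scheme.Modules.pullback gY).obj P), U)),
          ((ModLimH13.cmp fY gY rfl).hom.app P).app U z = ((Scheme.Modules.pullbackComp fY gY).hom.app P).app U z :=
        fun P z => by
          simp [ModLimH13.cmp, Scheme.Modules.pullbackCongr]
      have hK : ((Scheme.Modules.pullbackComp fX gX).app M ≪≫ (Scheme.Modules.pullbackCongr hw).app M ≪≫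
            ((Scheme.Modules.pullbackComp fY gY).app M).symm).hom.app U r = r' := by
        have h1 : ((ModLimH13.cmp fX gX hw).hom.app M).app U r = ((ModLimH13.cmp fY gY rfl).hom.app M).app U r' :=
          compat_res' fX fY gX gY hw M W s
        rw [hY] at h1
        refine (congrArg (((Scheme.Modules.pullbackComp fY gY).inv.app M).app U) h1).trans ?_
        exact congrArg (fun m => m.app U r') ((Scheme.Modules.pullbackComp fY gY).hom_inv_id_app M)
      have h2 := congrArg (fun m => m.app U r) hab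
      change (((Scheme.Modules.pullbackComp fX gX).app N ≪≫ (Scheme.Modules.pullbackCongr hw).app N ≪≫
          ((Scheme.Modules.pullbackComp fY gY).app N).symm).hom.app U (((Scheme.Modules.pullback fX).map a).app U r)) =
        ((Scheme.Modules.pullback fY).map b).app U (((Scheme.Modules.pullbackComp fX gX).app M ≪≫
          (Scheme.Modules.pullbackCongr hw).app M ≪≫ ((Scheme.Modules.pullbackComp fY gY).app M).symm).hom.app U r) at h2
      rw [hK, ModLimH13.map_res', ModLimH13.map_res'] at h2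
      unfold Compat ModLimH13.trans
      rw [hY, ← h2]
      exact (congrArg (fun m => m.app U (((ModLimH13.cmp fX gX hw).hom.app N).app U
        (ModLimH13.res' fX ((Scheme.Modules.pullback gX).obj N) e (a.app _ (ModLimH13.res' gX M le_rfl s)))))
          ((Scheme.Modules.pullbackComp fY gY).inv_hom_id_app N)).symm
    choose t ht htu using fun W s => existsUnique_lift fX fY gX gY hw hpo hN W (hc W s)
    have hadd : ∀ W (s s' : Γ(M, W)), t W (s + s') = t W s + t W s' := fun W s s' =>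
      (htu W _ _ ⟨by rw [ModLimH13.res'_add, (ht W s).1, (ht W s').1, ← map_add, ← ModLimH13.res'_add],
        by rw [ModLimH13.res'_add, (ht W s).2, (ht W s').2, ← map_add, ← ModLimH13.res'_add]⟩).symm
    have hnat : ∀ {W W' : T.Opens} (h : W' ≤ W) (s : Γ(M, W)), t W' (M1.mres M h s) = M1.mres N h (t W s) :=
      fun {W W'} h s => (htu W' _ _ ⟨by rw [mres_res'_eq, (ht W s).1, mres_res'_eq, M1.app_mres],
        by rw [mres_res'_eq, (ht W s).2, mres_res'_eq, M1.app_mres]⟩).symm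
    have hsmul : ∀ W (r : Γ(T, W)) (s : Γ(M, W)), t W (r • s) = r • t W s := fun W r s =>
      (htu W _ _ ⟨by rw [ModLimH13.res'_smul, (ht W s).1, ← Scheme.Modules.Hom.app_smul, ← ModLimH13.res'_smul],
        by rw [ModLimH13.res'_smul, (ht W s).2, ← Scheme.Modules.Hom.app_smul, ← ModLimH13.res'_smul]⟩).symm
    let φ : M ⟶ N := ⟨PresheafOfModules.homMk
      { app := fun W => AddCommGrpCat.ofHom (AddMonoidHom.mk' (t W.unop) (hadd W.unop))
        naturality := fun W W' i => by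
          ext s
          exact hnat (leOfHom i.unop) s }
      (fun W r s => hsmul W.unop r s)⟩
    refine ⟨φ, StQC14.pullback_hom_ext fun W s => ?_, StQC14.pullback_hom_ext fun W s => ?_⟩
    · rw [Amp.map_pullSec]
      have := (ht W s).1
      rw [ModLimH13.res', ModLimH13.res', M1.mres_id, M1.mres_id] at this
      exact this
    · rw [Amp.map_pullSec]
      have := (ht W s).2
      rw [ModLimH13.res', ModLimH13.res', M1.mres_id, M1.mres_id] at this
      exact this

end Groth.Agent.PinchModH7
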